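import Cfsg.Agent.PLocal.Cores
import Cfsg.Agent.Coprime.Basic
import Cfsg.Agent.RegularCount.Basic
import Mathlib.GroupTheory.Index

/-!
# Groups bounded by the centralizers of a four-group

If two commuting elements squaring to one act on a finite group, the order is bounded by its
2-part and the three centralizer orders. Proof: an injection for odd order, the Brauer–Fowler
count, and induction on the 2-part.
-/

set_option autoImplicit false
set_option linter.style.haveILetI false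
set_option linter.unusedSectionVars false

namespace CfsgLib.BoundedInvolution

open Cfsg

universe u

variable {X : Type u} [Group X] [Finite X]

theorem mem_centralizer_of_conj {v g : X} (h : v * g * v⁻¹ = g) :
    g ∈ Subgroup.centralizer ({v} : Set X) :=
  Subgroup.mem_centralizer_singleton_iff.2 (mul_inv_eq_iff_eq_mul.1 h).symm

/-- Odd order: the three centralizers cover the group. -/
theorem card_le_of_odd (G : Subgroup X) [G.Normal] (hodd : Odd (Nat.card G)) {v w : X}
    (hv : v * v = 1) (hw : w * w = 1) (hvw : v * w = w * v) :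
    Nat.card G ≤ Nat.card ↥(G ⊓ Subgroup.centralizer ({v} : Set X)) *
      (Nat.card ↥(G ⊓ Subgroup.centralizer ({w} : Set X)) *
        Nat.card ↥(G ⊓ Subgroup.centralizer ({v * w} : Set X))) := by
  classical
  obtain ⟨k, hk⟩ := hodd
  let s : X → X := fun a => a ^ (k + 1)
  have hsG : ∀ a ∈ G, s a ∈ G := fun a ha => G.pow_mem ha _
  have hsq : ∀ a ∈ G, s a * s a = a := fun a ha => by
    show a ^ (k + 1) * a ^ (k + 1) = a
    have h1 : a ^ Nat.card G = 1 := orderOf_dvd_iff_pow_eq_one.1 (G.orderOf_dvd_natCard ha)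
    rw [← pow_add, show k + 1 + (k + 1) = Nat.card G + 1 by omega, pow_add, h1, one_mul, pow_one]
  have huni : ∀ a b : X, b ∈ G → b * b = a → b = s a := fun a b hb hab => by
    have h1 : b ^ Nat.card G = 1 := orderOf_dvd_iff_pow_eq_one.1 (G.orderOf_dvd_natCard hb)
    show b = a ^ (k + 1)
    rw [← hab, ← pow_two, ← pow_mul, show 2 * (k + 1) = Nat.card G + 1 by omega, pow_add, h1,
      one_mul, pow_one]
  let σ := MulAut.conj v
  let τ := MulAut.conj w
  have hσG : ∀ a ∈ G, σ a ∈ G := fun a ha => (inferInstance : G.Normal).conj_mem a ha v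
  have hτG : ∀ a ∈ G, τ a ∈ G := fun a ha => (inferInstance : G.Normal).conj_mem a ha w
  have hσσ : ∀ a, σ (σ a) = a := fun a => by
    show σ (σ a) = _
    rw [← MulAut.mul_apply, ← map_mul, hv, map_one, MulAut.one_apply]
  have hττ : ∀ a, τ (τ a) = a := fun a => by
    rw [← MulAut.mul_apply, ← map_mul, hw, map_one, MulAut.one_apply]
  have hστ : ∀ a, σ (τ a) = τ (σ a) := fun a => by
    rw [← MulAut.mul_apply, ← MulAut.mul_apply, ← map_mul, ← map_mul, hvw]
  let F : ↥(G ⊓ Subgroup.centralizer ({v} : Set X)) ×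
      (↥(G ⊓ Subgroup.centralizer ({w} : Set X)) ×
        ↥(G ⊓ Subgroup.centralizer ({v * w} : Set X))) → G := fun q =>
    ⟨(q.2.1 : X) * q.2.2 * q.2.1 * q.1,
      mul_mem (mul_mem (mul_mem q.2.1.2.1 q.2.2.2.1) q.2.1.2.1) q.1.2.1⟩
  have hF : Function.Surjective F := by
    rintro ⟨g, hg⟩
    set a := g * (σ g)⁻¹ with ha
    have haG : a ∈ G := mul_mem hg (inv_mem (hσG g hg))
    set i := s a with hi
    have hiG : i ∈ G := hsG a haG
    have hσi : σ i = i⁻¹ := by
      refine (huni a⁻¹ (σ i) (hσG i hiG) ?_).trans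
        (huni a⁻¹ i⁻¹ (inv_mem hiG) ?_).symm
      · rw [← map_mul, hi, hsq a haG, ha, map_mul, map_inv, hσσ, mul_inv_rev, inv_inv]
      · rw [← mul_inv_rev, hi, hsq a haG]
    have hc : i⁻¹ * g ∈ G ⊓ Subgroup.centralizer ({v} : Set X) := by
      refine ⟨G.mul_mem (G.inv_mem hiG) hg, mem_centralizer_of_conj ?_⟩
      show σ (i⁻¹ * g) = i⁻¹ * g
      rw [map_mul, map_inv, hσi, inv_inv]
      have e : σ g = (i * i)⁻¹ * g := by rw [hi, hsq a haG, ha]; group
      rw [e]
      group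
    set h := s i with hh
    have hhG : h ∈ G := hsG i hiG
    have hinner : h⁻¹ * τ i * h⁻¹ ∈ G := mul_mem (mul_mem (inv_mem hhG) (hτG i hiG)) (inv_mem hhG)
    set Y := s (h⁻¹ * τ i * h⁻¹) with hY
    set Q := h * Y * h with hQ
    have hQG : Q ∈ G := mul_mem (mul_mem hhG (hsG _ hinner)) hhG
    have hQeq : Q * i⁻¹ * Q = τ i := by
      have e : h * h = i := hsq i hiG
      rw [hQ, ← e]
      calc h * Y * h * (h * h)⁻¹ * (h * Y * h) = h * (Y * Y) * h := by group
        _ = τ (h * h) := by rw [hY, hsq _ hinner, e]; group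
    have hQuni : ∀ Q' ∈ G, Q' * i⁻¹ * Q' = τ i → Q' = Q := by
      intro Q' hQ' he
      have e : h * h = i := hsq i hiG
      have h1 : h⁻¹ * Q' * h⁻¹ = Y := by
        refine huni _ _ (mul_mem (mul_mem (inv_mem hhG) hQ') (inv_mem hhG)) ?_
        calc h⁻¹ * Q' * h⁻¹ * (h⁻¹ * Q' * h⁻¹) = h⁻¹ * (Q' * (h * h)⁻¹ * Q') * h⁻¹ := by group
          _ = _ := by rw [e, he]
      rw [hQ, ← h1]; group
    have hτQ : τ Q = Q := by
      refine hQuni _ (hτG Q hQG) ?_
      have h1 := congrArg τ hQeq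
      rw [hττ, map_mul, map_mul, map_inv] at h1
      rw [show i⁻¹ = (τ Q * (τ i)⁻¹ * τ Q)⁻¹ by rw [h1]]
      group
    have hσQ : σ Q = Q⁻¹ := by
      have h1 := congrArg σ hQeq
      rw [map_mul, map_mul, map_inv, hσi, inv_inv, hστ, hσi, map_inv] at h1
      rw [← inv_inj, inv_inv]
      refine hQuni _ (inv_mem (hσG Q hQG)) ?_
      rw [← inv_inj, ← h1]
      group
    set m := s Q with hm
    have hmG : m ∈ G := hsG Q hQG
    have hτm : τ m = m := by
      refine (huni Q (τ m) (hτG m hmG) ?_)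
      rw [← map_mul, hm, hsq Q hQG, hτQ]
    have hσm : σ m = m⁻¹ := by
      refine (huni Q⁻¹ (σ m) (hσG m hmG) ?_).trans (huni Q⁻¹ m⁻¹ (inv_mem hmG) ?_).symm
      · rw [← map_mul, hm, hsq Q hQG, hσQ]
      · rw [← mul_inv_rev, hm, hsq Q hQG]
    set g' := m⁻¹ * i * m⁻¹ with hg'
    have hmm : m * m = Q := hsq Q hQG
    have hτg' : τ g' = g'⁻¹ := by
      rw [hg', map_mul, map_mul, map_inv, hτm, ← hQeq, ← hmm]; group
    have hσg' : σ g' = g'⁻¹ := by
      rw [hg', map_mul, map_mul, map_inv, hσm, hσi]; group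
    refine ⟨(⟨i⁻¹ * g, hc⟩, ⟨m, hmG, mem_centralizer_of_conj hτm⟩,
      ⟨g', G.mul_mem (G.mul_mem (G.inv_mem hmG) hiG) (G.inv_mem hmG), mem_centralizer_of_conj ?_⟩),
      Subtype.ext ?_⟩
    · show MulAut.conj (v * w) g' = g'
      rw [map_mul MulAut.conj v w, MulAut.mul_apply]
      show σ (τ g') = g'
      rw [hτg', map_inv, hσg', inv_inv]
    · show m * g' * m * (i⁻¹ * g) = g
      rw [hg']; group
  refine (Nat.card_le_card_of_surjective F hF).trans (le_of_eq ?_)
  rw [Nat.card_prod, Nat.card_prod]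

/-- Brauer–Fowler: some nontrivial element has a centralizer of bounded index. -/
theorem exists_card_le_mul (G : Subgroup X) [G.Normal] {v : X} (hv : v * v = 1) {c : ℕ}
    (hc : Nat.card ↥(G ⊓ Subgroup.centralizer ({v} : Set X)) ≤ c) :
    Nat.card G ≤ c ∨ ∃ x ∈ G, x ≠ 1 ∧
      Nat.card G ≤ 2 * c ^ 2 * Nat.card ↥(G ⊓ Subgroup.centralizer ({x} : Set X)) := by
  classical
  haveI := Fintype.ofFinite X
  set Gf := Finset.univ.filter (· ∈ G) with hGf
  have hn : Gf.card = Nat.card G := by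
    rw [hGf, ← Fintype.card_subtype, ← Nat.card_eq_fintype_card]
  set T := Gf.image (fun g => g * v * g⁻¹) with hT
  have hnT : Nat.card G ≤ c * T.card := by
    rw [← hn]
    refine (Finset.card_le_mul_card_image Gf c fun y hy => ?_)
    obtain ⟨g₀, hg₀, rfl⟩ := Finset.mem_image.1 hy
    rw [hGf, Finset.mem_filter] at hg₀
    rw [← Nat.card_eq_finsetCard]
    refine le_trans (Nat.card_le_card_of_injective
      (fun g : {x // x ∈ Gf.filter fun g => g * v * g⁻¹ = g₀ * v * g₀⁻¹} =>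
        (⟨g₀⁻¹ * (g : X), ?_, ?_⟩ : ↥(G ⊓ Subgroup.centralizer ({v} : Set X))))
      fun a b hab => ?_) hc
    · exact G.mul_mem (G.inv_mem hg₀.2) (Finset.mem_filter.1 (Finset.mem_filter.1 g.2).1).2
    · refine Subgroup.mem_centralizer_singleton_iff.2 ?_
      have h := (Finset.mem_filter.1 g.2).2
      calc g₀⁻¹ * (g : X) * v = g₀⁻¹ * ((g : X) * v * (g : X)⁻¹) * g := by group
        _ = v * (g₀⁻¹ * g) := by rw [h]; group
    · exact Subtype.ext (mul_left_cancel (congrArg Subtype.val hab))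
  rcases Nat.lt_or_ge T.card 2 with hT2 | hT2
  · exact Or.inl (hnT.trans (by
      calc c * T.card ≤ c * 1 := Nat.mul_le_mul_left c (by omega)
        _ = c := mul_one c))
  right
  have hnt : (Gf.filter (· ≠ 1)).Nonempty := by
    obtain ⟨a, ha, b, hb, hab⟩ := Finset.one_lt_card.1 hT2
    obtain ⟨g, hg, rfl⟩ := Finset.mem_image.1 ha
    obtain ⟨g', hg', rfl⟩ := Finset.mem_image.1 hb
    by_cases h1 : g = 1
    · refine ⟨g', Finset.mem_filter.2 ⟨hg', fun h => hab ?_⟩⟩
      rw [h1, h]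
    · exact ⟨g, Finset.mem_filter.2 ⟨hg, h1⟩⟩
  obtain ⟨x, hx, hmax⟩ := Finset.exists_max_image _
    (fun x => Nat.card ↥(G ⊓ Subgroup.centralizer ({x} : Set X))) hnt
  rw [hGf, Finset.mem_filter, Finset.mem_filter] at hx
  refine ⟨x, hx.1.2, hx.2, ?_⟩
  set Mx := Nat.card ↥(G ⊓ Subgroup.centralizer ({x} : Set X)) with hMx
  have hTmem : ∀ s ∈ T, ∃ g ∈ G, g * v * g⁻¹ = s := fun s hs => by
    obtain ⟨g, hg, rfl⟩ := Finset.mem_image.1 hs
    exact ⟨g, (Finset.mem_filter.1 hg).2, rfl⟩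
  have hprod : ∀ s ∈ T, ∀ s' ∈ T, s * s' ∈ G := by
    intro s hs s' hs'
    obtain ⟨g, hg, rfl⟩ := hTmem s hs
    obtain ⟨g', hg', rfl⟩ := hTmem s' hs'
    have e : g * v * g⁻¹ * (g' * v * g'⁻¹) = g * (v * (g⁻¹ * g') * v⁻¹) * g'⁻¹ := by
      rw [inv_eq_of_mul_eq_one_right hv]; group
    rw [e]
    exact mul_mem (mul_mem hg ((inferInstance : G.Normal).conj_mem _ (mul_mem (inv_mem hg) hg') v))
      (inv_mem hg')
  have hss : ∀ s ∈ T, s * s = 1 := fun s hs => by
    obtain ⟨g, -, rfl⟩ := hTmem s hs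
    calc g * v * g⁻¹ * (g * v * g⁻¹) = g * (v * v) * g⁻¹ := by group
      _ = 1 := by rw [hv]; group
  have hsq : T.card * T.card ≤ T.card + Nat.card G * Mx := by
    rw [← Finset.card_product, ← hn,
      Finset.card_eq_sum_card_fiberwise (f := fun q : X × X => q.1 * q.2) (t := Gf)
        (fun q hq => by
          rw [Finset.mem_coe, Finset.mem_product] at hq
          exact Finset.mem_coe.2 (Finset.mem_filter.2
            ⟨Finset.mem_univ _, hprod _ hq.1 _ hq.2⟩)),
      ← Finset.add_sum_erase Gf _ (Finset.mem_filter.2 ⟨Finset.mem_univ _, G.one_mem⟩ : (1 : X) ∈ Gf)]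
    refine add_le_add ?_ ((Finset.sum_le_card_nsmul _ _ Mx fun y hy => ?_).trans
      (Nat.mul_le_mul_right _ (Finset.card_le_card (Finset.erase_subset _ _))))
    · refine Finset.card_le_card_of_injOn (fun q => q.1) (fun q hq => ?_) fun q hq q' hq' h => ?_
      · exact (Finset.mem_product.1 (Finset.mem_filter.1 hq).1).1
      · rw [Finset.mem_coe, Finset.mem_filter] at hq hq'
        refine Prod.ext h (mul_left_cancel (a := q.1) ?_)
        rw [hq.2, show q.1 = q'.1 from h, hq'.2]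
    · rw [Finset.mem_erase] at hy
      refine le_trans ?_ (hmax y (Finset.mem_filter.2 ⟨hy.2, hy.1⟩))
      rw [← Nat.card_eq_finsetCard]
      rcases isEmpty_or_nonempty
          {q // q ∈ (T ×ˢ T).filter fun q : X × X => q.1 * q.2 = y} with he | ⟨⟨q₀, hq₀⟩⟩
      · rw [Nat.card_of_isEmpty]; exact Nat.zero_le _
      rw [Finset.mem_filter, Finset.mem_product] at hq₀
      have hinv : ∀ q : X × X, q.1 ∈ T → q.2 ∈ T → q.1 * q.2 = y → q.1 * y * q.1⁻¹ = y⁻¹ := by
        intro q h1 h2 h3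
        rw [← h3, mul_inv_rev, inv_eq_of_mul_eq_one_right (hss _ h2), ← mul_assoc, hss _ h1,
          one_mul, inv_eq_of_mul_eq_one_right (hss _ h1)]
      refine Nat.card_le_card_of_injective
        (fun q : {q // q ∈ (T ×ˢ T).filter fun q : X × X => q.1 * q.2 = y} =>
          (⟨(q : X × X).1 * q₀.1, ?_, ?_⟩ : ↥(G ⊓ Subgroup.centralizer ({y} : Set X))))
        fun a b hab => ?_
      · exact hprod _ (Finset.mem_product.1 (Finset.mem_filter.1 q.2).1).1 _ hq₀.1.1
      · obtain ⟨h1, h3⟩ := Finset.mem_filter.1 q.2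
        obtain ⟨h1, h2⟩ := Finset.mem_product.1 h1
        refine mem_centralizer_of_conj ?_
        have e1 := hinv _ h1 h2 h3
        have e2 := hinv _ hq₀.1.1 hq₀.1.2 hq₀.2
        have key : (q : X × X).1 * q₀.1 * y * ((q : X × X).1 * q₀.1)⁻¹ = y := by
          calc _ = (q : X × X).1 * (q₀.1 * y * q₀.1⁻¹) * (q : X × X).1⁻¹ := by group
            _ = ((q : X × X).1 * y * (q : X × X).1⁻¹)⁻¹ := by rw [e2]; group
            _ = y := by rw [e1, inv_inv]
        have hcomm := mul_inv_eq_iff_eq_mul.1 key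
        calc y * ((q : X × X).1 * q₀.1) * y⁻¹ = (q : X × X).1 * q₀.1 * y * y⁻¹ := by rw [← hcomm]
          _ = (q : X × X).1 * q₀.1 := mul_inv_cancel_right _ _
      · have h := mul_right_cancel (congrArg Subtype.val hab)
        refine Subtype.ext (Prod.ext h (mul_left_cancel (a := (a : X × X).1) ?_))
        rw [(Finset.mem_filter.1 a.2).2, h, (Finset.mem_filter.1 b.2).2]
  have hG0 : 0 < Nat.card G := Nat.card_pos
  refine Nat.le_of_mul_le_mul_left ?_ hG0
  calc Nat.card G * Nat.card G ≤ (c * T.card) * (c * T.card) := Nat.mul_le_mul hnT hnT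
    _ = c ^ 2 * (T.card * T.card) := by ring
    _ ≤ c ^ 2 * (2 * (Nat.card G * Mx)) := by
        refine Nat.mul_le_mul_left _ ?_
        have : 2 * T.card ≤ T.card * T.card := Nat.mul_le_mul_right _ hT2
        omega
    _ = Nat.card G * (2 * c ^ 2 * Mx) := by ring

/-- Centralizers in a quotient are bounded. -/
theorem card_map_inf_centralizer_le (G Z : Subgroup X) [Z.Normal] (v : X) {c : ℕ}
    (hc : Nat.card ↥(G ⊓ Subgroup.centralizer ({v} : Set X)) ≤ c) :
    Nat.card ↥(G.map (QuotientGroup.mk' Z) ⊓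
      Subgroup.centralizer ({QuotientGroup.mk' Z v} : Set (X ⧸ Z))) ≤ c * Nat.card Z := by
  classical
  haveI := Fintype.ofFinite X
  set P := Finset.univ.filter (fun g : X => g ∈ G ∧ g * v * g⁻¹ * v⁻¹ ∈ Z) with hP
  have hmem : ∀ g : X, g ∈ P ↔ g ∈ G ∧ g * v * g⁻¹ * v⁻¹ ∈ Z := fun g => by simp [hP]
  refine le_trans (Nat.card_le_card_of_surjective
    (fun g : {g // g ∈ P} => (⟨QuotientGroup.mk' Z (g : X), ?_, ?_⟩ :
      ↥(G.map (QuotientGroup.mk' Z) ⊓
        Subgroup.centralizer ({QuotientGroup.mk' Z v} : Set (X ⧸ Z))))) ?_) ?_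
  · exact ⟨_, ((hmem _).1 g.2).1, rfl⟩
  · refine Subgroup.mem_centralizer_singleton_iff.2 ?_
    have h := (QuotientGroup.eq_one_iff _).2 ((hmem _).1 g.2).2
    rw [← QuotientGroup.mk'_apply, map_mul, map_mul, map_mul, map_inv, map_inv, mul_inv_eq_one,
      mul_inv_eq_iff_eq_mul] at h
    exact h
  · rintro ⟨y, ⟨g, hg, rfl⟩, hy⟩
    refine ⟨⟨g, (hmem g).2 ⟨hg, ?_⟩⟩, rfl⟩
    rw [← QuotientGroup.eq_one_iff, ← QuotientGroup.mk'_apply, map_mul, map_mul, map_mul, map_inv,
      map_inv, mul_inv_eq_one, mul_inv_eq_iff_eq_mul]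
    exact Subgroup.mem_centralizer_singleton_iff.1 hy
  · rw [Nat.card_eq_finsetCard]
    refine (Finset.card_le_mul_card_image (f := fun g => g * v * g⁻¹ * v⁻¹) P c fun z hz => ?_).trans
      (Nat.mul_le_mul_left c ?_)
    · obtain ⟨g₀, hg₀, rfl⟩ := Finset.mem_image.1 hz
      rw [← Nat.card_eq_finsetCard]
      refine le_trans (Nat.card_le_card_of_injective
        (fun g : {g // g ∈ P.filter fun g => g * v * g⁻¹ * v⁻¹ = g₀ * v * g₀⁻¹ * v⁻¹} =>
          (⟨g₀⁻¹ * (g : X), ?_, ?_⟩ : ↥(G ⊓ Subgroup.centralizer ({v} : Set X))))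
        fun a b hab => ?_) hc
      · exact G.mul_mem (G.inv_mem ((hmem _).1 hg₀).1)
          ((hmem _).1 (Finset.mem_filter.1 g.2).1).1
      · refine Subgroup.mem_centralizer_singleton_iff.2 ?_
        have h := mul_right_cancel (Finset.mem_filter.1 g.2).2
        calc g₀⁻¹ * (g : X) * v = g₀⁻¹ * ((g : X) * v * (g : X)⁻¹) * g := by group
          _ = v * (g₀⁻¹ * g) := by rw [h]; group
      · exact Subtype.ext (mul_left_cancel (congrArg Subtype.val hab))
    · rw [← Nat.card_eq_finsetCard]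
      refine Nat.card_le_card_of_injective (fun z : {z // z ∈ P.image _} => (⟨(z : X), ?_⟩ : Z))
        fun a b hab => Subtype.ext (congrArg (fun z : Z => (z : X)) hab)
      obtain ⟨g, hg, hgz⟩ := Finset.mem_image.1 z.2
      exact hgz ▸ ((hmem g).1 hg).2

end CfsgLib.BoundedInvolution
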