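import Cfsg.Agent.BoundedInvolution.Basic

/-!
# The bound

`exists_bound`: order bounded by the 2-part and the centralizers of a four-group.
-/

set_option autoImplicit false
set_option linter.style.haveILetI false
set_option linter.unusedSectionVars false

namespace CfsgLib.BoundedInvolution

open Cfsg

universe u

variable {X : Type u} [Group X] [Finite X]

theorem card_eq_map_mul (G Z : Subgroup X) [Z.Normal] (h : Z ≤ G) :
    Nat.card G = Nat.card (G.map (QuotientGroup.mk' Z)) * Nat.card Z := by
  have h1 : Z.relIndex G = Nat.card (G.map (QuotientGroup.mk' Z)) := by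
    conv_lhs => rw [← QuotientGroup.ker_mk' Z, ← MonoidHom.comap_bot, Subgroup.relIndex_comap,
      Subgroup.relIndex_bot_left]
  rw [← h1, ← Subgroup.relIndex_bot_left (H := Z), ← Subgroup.relIndex_bot_left (H := G), mul_comm,
    Subgroup.relIndex_mul_relIndex ⊥ Z G bot_le h]

theorem card_closure_pair_le {v w : X} (hv : v * v = 1) (hw : w * w = 1) (hvw : v * w = w * v) :
    Nat.card (Subgroup.closure ({v, w} : Set X)) ≤ 4 := by
  classical
  have hsub : ∀ g ∈ Subgroup.closure ({v, w} : Set X), g = 1 ∨ g = v ∨ g = w ∨ g = v * w := by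
    intro g hg
    have e1 : v * (v * w) = w := by rw [← mul_assoc, hv, one_mul]
    have e2 : w * (v * w) = v := by rw [hvw, ← mul_assoc, hw, one_mul]
    have e3 : v * w * v = w := by rw [hvw, mul_assoc, hv, mul_one]
    have e4 : v * w * w = v := by rw [mul_assoc, hw, mul_one]
    have e5 : v * w * (v * w) = 1 := by rw [mul_assoc, e2, hv]
    induction hg using Subgroup.closure_induction with
    | mem g hg => rcases hg with rfl | rfl <;> simp
    | one => simp
    | mul a b _ _ ha hb =>
      rcases ha with rfl | rfl | rfl | rfl <;> rcases hb with rfl | rfl | rfl | rfl <;>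
        simp [hv, hw, e1, e2, e3, e4, e5, ← hvw]
    | inv a _ ha =>
      rcases ha with rfl | rfl | rfl | rfl
      · simp
      · simp [inv_eq_of_mul_eq_one_right hv]
      · simp [inv_eq_of_mul_eq_one_right hw]
      · simp [inv_eq_of_mul_eq_one_right hv, inv_eq_of_mul_eq_one_right hw, ← hvw]
  haveI := Fintype.ofFinite X
  rw [Nat.card_eq_fintype_card, Fintype.card_subtype]
  refine (Finset.card_le_card (t := {1, v, w, v * w}) fun g hg => ?_).trans
    ((Finset.card_insert_le _ _).trans (Nat.succ_le_succ ((Finset.card_insert_le _ _).trans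
      (Nat.succ_le_succ ((Finset.card_insert_le _ _).trans (by simp))))))
  rcases hsub g (Finset.mem_filter.1 hg).2 with rfl | rfl | rfl | rfl <;> simp

theorem odd_card_iff_factorization (G : Subgroup X) :
    Odd (Nat.card G) ↔ (Nat.card G).factorization 2 = 0 := by
  rw [Nat.odd_iff, Nat.factorization_eq_zero_iff]
  have := Nat.card_pos (α := G)
  simp [Nat.prime_two, this.ne', Nat.two_dvd_ne_zero]

/-- The index of the normal core is bounded by the factorial of the index. -/
theorem index_normalCore_le (H : Subgroup X) {m : ℕ} (h : H.index ≤ m) :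
    H.normalCore.index ≤ m.factorial := by
  rw [Subgroup.normalCore_eq_ker, Subgroup.index_ker]
  refine le_trans (Nat.card_le_card_of_injective _ Subtype.val_injective) ?_
  rw [Nat.card_perm, ← Subgroup.index_eq_card]
  exact Nat.factorial_le h

theorem card_inf_mono {H G : Subgroup X} (h : H ≤ G) (S : Set X) :
    Nat.card ↥(H ⊓ Subgroup.centralizer S) ≤ Nat.card ↥(G ⊓ Subgroup.centralizer S) :=
  Nat.le_of_dvd Nat.card_pos (Subgroup.card_dvd_of_le (inf_le_inf_right _ h))

/-- A group acted on by two commuting involutions is bounded by its 2-part and the centralizers. -/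
theorem exists_bound (a : ℕ) : ∀ c : ℕ, ∃ N : ℕ, ∀ (X : Type u) [Group X] [Finite X]
    (G : Subgroup X) [G.Normal] (v w : X), v * v = 1 → w * w = 1 → v * w = w * v →
    (Nat.card G).factorization 2 ≤ a →
    Nat.card ↥(G ⊓ Subgroup.centralizer ({v} : Set X)) ≤ c →
    Nat.card ↥(G ⊓ Subgroup.centralizer ({w} : Set X)) ≤ c →
    Nat.card ↥(G ⊓ Subgroup.centralizer ({v * w} : Set X)) ≤ c → Nat.card G ≤ N := by
  haveI : Fact (Nat.Prime 2) := ⟨Nat.prime_two⟩
  induction a with
  | zero =>
    intro c
    refine ⟨c * (c * c), fun X _ _ G _ v w hv hw hvw ha h1 h2 h3 => ?_⟩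
    exact (card_le_of_odd G ((odd_card_iff_factorization G).2 (Nat.le_zero.1 ha)) hv hw hvw).trans
      (Nat.mul_le_mul h1 (Nat.mul_le_mul h2 h3))
  | succ a ih =>
    choose F hF using ih
    -- trivial odd core, index at most four
    have inner : ∀ c : ℕ, ∀ (X : Type u) [Group X] [Finite X]
        (G : Subgroup X) [G.Normal] (v w : X), v * v = 1 → w * w = 1 → v * w = w * v →
        G.index ≤ 4 → (∀ K : Subgroup X, K.Normal → K ≤ G → Odd (Nat.card K) → K = ⊥) →
        (Nat.card G).factorization 2 ≤ a + 1 →
        Nat.card ↥(G ⊓ Subgroup.centralizer ({v} : Set X)) ≤ c →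
        Nat.card ↥(G ⊓ Subgroup.centralizer ({w} : Set X)) ≤ c →
        Nat.card ↥(G ⊓ Subgroup.centralizer ({v * w} : Set X)) ≤ c →
        Nat.card G ≤ c + (8 * c ^ 2).factorial * F c + 2 ^ (a + 1) * F (c * 2 ^ (a + 1)) := by
      intro c X _ _ G _ v w hv hw hvw hidx hO ha h1 h2 h3
      rcases exists_card_le_mul G hv h1 with h | ⟨x, hxG, hx1, hx⟩
      · omega
      set Cx := G ⊓ Subgroup.centralizer ({x} : Set X) with hCx
      have hCidx : Cx.index ≤ 8 * c ^ 2 := by
        refine Nat.le_of_mul_le_mul_right ?_ (Nat.card_pos (α := Cx))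
        rw [Subgroup.index_mul_card, ← Subgroup.index_mul_card G]
        calc G.index * Nat.card G ≤ 4 * (2 * c ^ 2 * Nat.card Cx) := Nat.mul_le_mul hidx hx
          _ = 8 * c ^ 2 * Nat.card Cx := by ring
      set L := Cx.normalCore with hL
      have hLG : L ≤ G := (Subgroup.normalCore_le Cx).trans inf_le_left
      have hLx : L ≤ Subgroup.centralizer ({x} : Set X) :=
        (Subgroup.normalCore_le Cx).trans inf_le_right
      by_cases hLa : (Nat.card L).factorization 2 ≤ a
      · have hbd := hF c X L v w hv hw hvw hLa ((card_inf_mono hLG _).trans h1)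
          ((card_inf_mono hLG _).trans h2) ((card_inf_mono hLG _).trans h3)
        have : Nat.card G ≤ (8 * c ^ 2).factorial * F c := by
          calc Nat.card G ≤ Nat.card X := Subgroup.card_le_card_group G
            _ = L.index * Nat.card L := (Subgroup.index_mul_card L).symm
            _ ≤ _ := Nat.mul_le_mul (index_normalCore_le Cx hCidx) hbd
        omega
      -- now `L` contains every 2-element of `G`
      have h2el : ∀ g ∈ G, (∃ k, orderOf g = 2 ^ k) → g ∈ L := by
        intro g hg ⟨k, hk⟩
        have hmul : L.relIndex G * Nat.card L = Nat.card G := by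
          rw [← Subgroup.relIndex_bot_left (H := L), ← Subgroup.relIndex_bot_left (H := G),
            mul_comm, Subgroup.relIndex_mul_relIndex ⊥ L G bot_le hLG]
        have hr0 : L.relIndex G ≠ 0 := fun h => by
          rw [h, zero_mul] at hmul; exact Nat.card_pos.ne hmul
        have hodd : ¬ 2 ∣ L.relIndex G := by
          intro h
          have hpos := Nat.prime_two.factorization_pos_of_dvd hr0 h
          rw [← hmul, Nat.factorization_mul hr0 Nat.card_pos.ne', Finsupp.add_apply] at ha
          omega
        have hmem : g ^ L.relIndex G ∈ L := (L.subgroupOf G).pow_index_mem ⟨g, hg⟩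
        obtain ⟨i, hi⟩ := exists_pow_eq_self_of_coprime (x := g) (n := L.relIndex G)
          (by rw [hk]; exact ((Nat.prime_two.coprime_iff_not_dvd.2 hodd).pow_left k).symm)
        rw [← hi]
        exact L.pow_mem hmem i
      set W := Subgroup.normalClosure ({x} : Set X) with hW
      have hWG : W ≤ G := Subgroup.normalClosure_le_normal (Set.singleton_subset_iff.2 hxG)
      have hWne : W ≠ ⊥ := fun h => hx1 (Subgroup.mem_bot.1 (h ▸
        Subgroup.subset_normalClosure (Set.mem_singleton x)))
      have hWC : W ≤ Subgroup.centralizer (L : Set X) := by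
        refine Subgroup.normalClosure_le_normal (Set.singleton_subset_iff.2 ?_)
        refine Subgroup.mem_centralizer_iff.2 fun l hl => ?_
        exact Subgroup.mem_centralizer_singleton_iff.1 (hLx hl)
      obtain ⟨S⟩ : Nonempty (Sylow 2 W) := inferInstance
      have hSc : (S : Subgroup W) ≤ Subgroup.center W := by
        intro s hs
        obtain ⟨k, hk⟩ := IsPGroup.iff_orderOf.1 S.isPGroup' ⟨s, hs⟩
        rw [Subgroup.orderOf_mk] at hk
        have hsL : (s : X) ∈ L := h2el s (hWG s.2) ⟨k, by rw [Subgroup.orderOf_coe]; exact hk⟩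
        rw [Subgroup.mem_center_iff]
        intro t
        exact Subtype.ext (Subgroup.mem_centralizer_iff.1 (hWC t.2) _ hsL).symm
      obtain ⟨K, hK, j, hj⟩ := RegularCount.exists_regular_subgroup_of_center (p := 2) (E := W)
        ((Nat.prime_two.coprime_iff_not_dvd.2
          (fun h => S.not_dvd_index (h.trans (Subgroup.index_dvd_of_le hSc)))).symm)
      have hKodd : Odd (Nat.card K) := by
        rw [← Nat.not_even_iff_odd, even_iff_two_dvd]
        intro hd
        obtain ⟨e, he⟩ := exists_prime_orderOf_dvd_card' 2 (G := K) hd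
        exact (hK (e : W)).1 e.2 (by rw [Subgroup.orderOf_coe, he])
      haveI hKn : (K.map W.subtype).Normal := by
        constructor
        rintro _ ⟨e, he, rfl⟩ t
        refine ⟨⟨t * e * t⁻¹, (inferInstance : W.Normal).conj_mem e e.2 t⟩, ?_, rfl⟩
        rw [SetLike.mem_coe, hK, ← Subgroup.orderOf_coe] at he ⊢
        exact RegularCount.not_dvd_orderOf_conj t he
      have hKbot : K = ⊥ := by
        refine (Subgroup.map_eq_bot_iff_of_injective K W.subtype_injective).1
          (hO _ hKn ((Subgroup.map_subtype_le K).trans hWG) ?_)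
        rwa [Subgroup.card_map_of_injective W.subtype_injective]
      rw [hKbot, Subgroup.index_bot] at hj
      have hj0 : j ≠ 0 := by
        rintro rfl
        exact hWne (Subgroup.card_eq_one.1 (by simpa using hj))
      have hGW := card_eq_map_mul G W hWG
      have hpos : Nat.card (G.map (QuotientGroup.mk' W)) ≠ 0 := Nat.card_pos.ne'
      have hfac := ha
      rw [hGW, Nat.factorization_mul hpos Nat.card_pos.ne', Finsupp.add_apply, hj,
        Nat.prime_two.factorization_pow, Finsupp.single_eq_same] at hfac
      have hWle : Nat.card W ≤ 2 ^ (a + 1) := by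
        rw [hj]; exact Nat.pow_le_pow_right (by norm_num) (by omega)
      haveI : (G.map (QuotientGroup.mk' W)).Normal :=
        Subgroup.Normal.map inferInstance _ (QuotientGroup.mk'_surjective W)
      have hbd := hF (c * 2 ^ (a + 1)) (X ⧸ W) (G.map (QuotientGroup.mk' W))
        (QuotientGroup.mk' W v) (QuotientGroup.mk' W w)
        (by rw [← map_mul, hv, map_one]) (by rw [← map_mul, hw, map_one])
        (by rw [← map_mul, ← map_mul, hvw]) (by omega)
        ((card_map_inf_centralizer_le G W v h1).trans (Nat.mul_le_mul_left c hWle))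
        ((card_map_inf_centralizer_le G W w h2).trans (Nat.mul_le_mul_left c hWle))
        (by rw [← map_mul]
            exact (card_map_inf_centralizer_le G W (v * w) h3).trans (Nat.mul_le_mul_left c hWle))
      have : Nat.card G ≤ 2 ^ (a + 1) * F (c * 2 ^ (a + 1)) := by
        rw [hGW, mul_comm]
        exact Nat.mul_le_mul hWle hbd
      omega
    intro c
    set c' := c * (c * (c * c)) with hc'
    refine ⟨(c' + (8 * c' ^ 2).factorial * F c' + 2 ^ (a + 1) * F (c' * 2 ^ (a + 1))) *
      (c * (c * c)), fun X _ _ G _ v w hv hw hvw ha h1 h2 h3 => ?_⟩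
    -- restrict to the group generated by `G` and the two elements
    set V := Subgroup.closure ({v, w} : Set X) with hV
    set X' := V ⊔ G with hX'
    have hGX : G ≤ X' := le_sup_right
    let G' := G.subgroupOf X'
    let eG : G' ≃* G := Subgroup.subgroupOfEquivOfLe hGX
    let v' : X' := ⟨v, Subgroup.mem_sup_left (Subgroup.subset_closure (Set.mem_insert _ _))⟩
    let w' : X' := ⟨w, Subgroup.mem_sup_left (Subgroup.subset_closure (Set.mem_insert_of_mem _ rfl))⟩
    have hcen : ∀ u : X', Nat.card ↥(G' ⊓ Subgroup.centralizer ({u} : Set X')) ≤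
        Nat.card ↥(G ⊓ Subgroup.centralizer ({(u : X)} : Set X)) := fun u =>
      Nat.card_le_card_of_injective
        (fun g => ⟨((g : X') : X), g.2.1, Subgroup.mem_centralizer_singleton_iff.2
          (congrArg Subtype.val (Subgroup.mem_centralizer_singleton_iff.1 g.2.2))⟩)
        fun g g' h => Subtype.ext (Subtype.ext (congrArg Subtype.val h :))
    have hidx : G'.index ≤ 4 := by
      refine Nat.le_of_mul_le_mul_right ?_ (Nat.card_pos (α := G'))
      rw [Subgroup.index_mul_card, Nat.card_congr eG.toEquiv]
      exact (Nat.le_of_dvd (Nat.mul_pos Nat.card_pos Nat.card_pos)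
        (PLocal.card_sup_dvd_mul V G)).trans
        (Nat.mul_le_mul_right _ (card_closure_pair_le hv hw hvw))
    set K := (pPrimeCore 2 G').map G'.subtype with hK
    haveI : K.Normal := PLocal.normal_map_subtype G' (pPrimeCore 2 G')
    have hKG : K ≤ G' := Subgroup.map_subtype_le _
    have hKodd : Odd (Nat.card K) := by
      rw [hK, Subgroup.card_map_of_injective G'.subtype_injective]
      exact Nat.coprime_two_right.1 (PLocal.coprime_card_pPrimeCore 2 G')
    have hv' : v' * v' = 1 := Subtype.ext hv
    have hw' : w' * w' = 1 := Subtype.ext hw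
    have hvw' : v' * w' = w' * v' := Subtype.ext hvw
    have g1 := (hcen v').trans h1
    have g2 := (hcen w').trans h2
    have g3 := (hcen (v' * w')).trans h3
    have hKc : Nat.card K ≤ c * (c * c) :=
      (card_le_of_odd K hKodd hv' hw' hvw').trans (Nat.mul_le_mul ((card_inf_mono hKG _).trans g1)
        (Nat.mul_le_mul ((card_inf_mono hKG _).trans g2) ((card_inf_mono hKG _).trans g3)))
    have hGK := card_eq_map_mul G' K hKG
    haveI : (G'.map (QuotientGroup.mk' K)).Normal :=
      Subgroup.Normal.map inferInstance _ (QuotientGroup.mk'_surjective K)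
    have hbd := inner c' (X' ⧸ K) (G'.map (QuotientGroup.mk' K)) (QuotientGroup.mk' K v')
      (QuotientGroup.mk' K w') (by rw [← map_mul, hv', map_one]) (by rw [← map_mul, hw', map_one])
      (by rw [← map_mul, ← map_mul, hvw'])
      (by rw [Subgroup.index_map_eq _ (QuotientGroup.mk'_surjective K)
            (by rw [QuotientGroup.ker_mk']; exact hKG)]; exact hidx)
      ?_ ?_ ((card_map_inf_centralizer_le G' K v' g1).trans (Nat.mul_le_mul_left c hKc))
      ((card_map_inf_centralizer_le G' K w' g2).trans (Nat.mul_le_mul_left c hKc))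
      (by rw [← map_mul]
          exact (card_map_inf_centralizer_le G' K _ g3).trans (Nat.mul_le_mul_left c hKc))
    · rw [← Nat.card_congr eG.toEquiv, hGK]
      exact Nat.mul_le_mul hbd hKc
    · intro J hJn hJ hJodd
      set J' := J.comap (QuotientGroup.mk' K) with hJ'
      haveI : J'.Normal := hJn.comap _
      have hJG : J' ≤ G' := by
        refine (Subgroup.comap_mono hJ).trans ?_
        rw [Subgroup.comap_map_eq, QuotientGroup.ker_mk']
        exact sup_le le_rfl hKG
      have hKJ : K ≤ J' := by
        intro k hk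
        show QuotientGroup.mk' K k ∈ J
        rw [QuotientGroup.mk'_apply, (QuotientGroup.eq_one_iff k).2 hk]
        exact J.one_mem
      have hmap : J'.map (QuotientGroup.mk' K) = J :=
        Subgroup.map_comap_eq_self_of_surjective (QuotientGroup.mk'_surjective K) J
      have hJ'odd : Odd (Nat.card J') := by
        rw [card_eq_map_mul J' K hKJ, hmap]
        exact hJodd.mul hKodd
      have hle : J'.subgroupOf G' ≤ pPrimeCore 2 G' := PLocal.le_pPrimeCore (by
        rw [Nat.card_congr (Subgroup.subgroupOfEquivOfLe hJG).toEquiv]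
        exact Nat.coprime_two_right.2 hJ'odd)
      rw [← hmap, Subgroup.map_eq_bot_iff, QuotientGroup.ker_mk']
      intro g hg
      exact ⟨⟨g, hJG hg⟩, hle hg, rfl⟩
    · refine le_trans ((Nat.factorization_le_iff_dvd Nat.card_pos.ne' Nat.card_pos.ne').2
        (Dvd.intro _ hGK.symm) 2) ?_
      rw [Nat.card_congr eG.toEquiv]
      exact ha

end CfsgLib.BoundedInvolution
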